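import Cfsg.Agent.H167.SteinbergMod
import Cfsg.Agent.FixBN.NodeRGD
import Cfsg.Agent.Tits.OfBN
import Cfsg.Agent.Nodes.OppDec
import Cfsg.Agent.Nodes.NormalForm
import Cfsg.Agent.Nodes.HasRGD
set_option linter.all false

/-!
# The Steinberg character of a group with a root group datum (helper167)

* `bldgMap` : transport of a building along an isomorphism of Coxeter systems;
* `exists_bldg` : the building of a root group datum, with values in the Weyl group of the datum;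
* `exists_char` : **the Steinberg character** of a finite group with root group datum: irreducible, `χ 1 = |U|`,
  `χ` vanishes on `U \ 1`, `χ b` = number of the chambers opposite to the standard one fixed by `b` for `b ∈ B`;
* `steinberg_of_hasRGD` : the version for `HasRGD p G` and the Sylow `p`-subgroups.
-/

set_option autoImplicit false
set_option linter.unusedSectionVars false

namespace Cfsg.Agent.H167.SteinbergRGD

open Cfsg CoxeterSystem Cfsg.Agent.ChevalleyStructure.CoxeterGeom Cfsg.Agent.Tits.Roots Cfsg.Agent.Tits.Core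
  Cfsg.Agent.Tits.Exchange Cfsg.Agent.Tits.OfBN Cfsg.Agent.LieExceptional.BNPairCore
  Cfsg.Agent.Nodes.Reps Cfsg.Agent.Nodes.BNOf Cfsg.Agent.Nodes.OppDec Cfsg.Agent.H167.SteinbergMod

/-! ### Transport of a building along an isomorphism of Coxeter systems -/

section Map

variable {I : Type*} {M : CoxeterMatrix I} {W W' : Type*} [Group W] [Group W']
  (cs : CoxeterSystem M W) (cs' : CoxeterSystem M W') (f : W ≃* W') (hf : ∀ i, f (cs.simple i) = cs'.simple i)

include hf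

theorem map_wordProd (ω : List I) : f (cs.wordProd ω) = cs'.wordProd ω := by
  induction ω with
  | nil => rw [wordProd_nil, wordProd_nil, map_one]
  | cons i ω ih => rw [wordProd_cons, wordProd_cons, map_mul, hf, ih]

theorem length_map (w : W) : cs'.length (f w) = cs.length w := by
  apply le_antisymm
  · obtain ⟨ω, hω, rfl⟩ := cs.exists_isReduced w
    rw [map_wordProd cs cs' f hf, hω.eq]
    exact cs'.length_wordProd_le ω
  · obtain ⟨ω, hω, h⟩ := cs'.exists_isReduced (f w)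
    have h1 : w = cs.wordProd ω := by
      apply f.injective
      rw [h, map_wordProd cs cs' f hf]
    rw [h, hω.eq, h1]
    exact cs.length_wordProd_le ω

/-- Transport of a building along an isomorphism of Coxeter systems. -/
def bldgMap {C : Type*} (Δ : Bldg cs C) : Bldg cs' C where
  δ x y := f (Δ.δ x y)
  eq_one x y := by rw [map_eq_one_iff f f.injective, Δ.eq_one]
  symm x y := by rw [Δ.symm, map_inv]
  step x y z i h := by
    have h1 : Δ.δ y z = cs.simple i := f.injective (by rw [h, hf])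
    rcases Δ.step x y z i h1 with h2 | h2
    · left; rw [h2, map_mul, hf]
    · right; rw [h2]
  step_lt x y z i h hlt := by
    have h1 : Δ.δ y z = cs.simple i := f.injective (by rw [h, hf])
    rw [← hf, ← map_mul, length_map cs cs' f hf, length_map cs cs' f hf] at hlt
    rw [Δ.step_lt x y z i h1 hlt, map_mul, hf]
  exists_step x y i := by
    obtain ⟨z, h1, h2⟩ := Δ.exists_step x y i
    exact ⟨z, by rw [h1, hf], by rw [h2, map_mul, hf]⟩

end Map

/-! ### The building of a root group datum -/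

section RGDSec

variable {I W Y : Type*} [Fintype I] [DecidableEq I] [Group W] [Group Y] {M : CoxeterMatrix I}
  {cs : CoxeterSystem M W} {A : I → I → ℤ} {h : IsCartan M A} {p : ℕ} {T : Subgroup Y} {n : I → Y}
  {X : (I → ℤ) → Subgroup Y}

/-- a representative represents only one element -/
theorem rp_inj [Finite W] (R : RGD cs h p T n X) {v w : W} {g : Y} (h1 : Rp cs R.nsys v g) (h2 : Rp cs R.nsys w g) :
    v = w := by
  have h3 := h1.inv.mul h2
  rw [inv_mul_cancel] at h3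
  have h4 := R.eq_one_of_mem_B h3 (one_mem _)
  rwa [inv_mul_eq_one] at h4

theorem mem_bnPair_N [Finite W] (R : RGD cs h p T n X) (hgen : RGD.B cs h T X ⊔ NN cs R.nsys = ⊤) (g : Y) :
    g ∈ (R.bnPair hgen).N ↔ ∃ w, Rp cs R.nsys w g := Iff.rfl

/-- the homomorphism of `N` onto the Weyl group -/
noncomputable def toW [Finite W] (R : RGD cs h p T n X) (hgen : RGD.B cs h T X ⊔ NN cs R.nsys = ⊤) :
    (R.bnPair hgen).N →* W where
  toFun g := ((mem_bnPair_N R hgen g).1 g.2).choose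
  map_one' := rp_inj R ((mem_bnPair_N R hgen _).1 (1 : (R.bnPair hgen).N).2).choose_spec rp_one
  map_mul' a b := rp_inj R ((mem_bnPair_N R hgen _).1 (a * b).2).choose_spec
    (((mem_bnPair_N R hgen _).1 a.2).choose_spec.mul ((mem_bnPair_N R hgen _).1 b.2).choose_spec)

theorem rp_toW [Finite W] (R : RGD cs h p T n X) (hgen : RGD.B cs h T X ⊔ NN cs R.nsys = ⊤)
    (g : (R.bnPair hgen).N) : Rp cs R.nsys (toW R hgen g) (g : Y) :=
  ((mem_bnPair_N R hgen g).1 g.2).choose_spec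

theorem toW_eq [Finite W] (R : RGD cs h p T n X) (hgen : RGD.B cs h T X ⊔ NN cs R.nsys = ⊤)
    {g : (R.bnPair hgen).N} {w : W} (hg : Rp cs R.nsys w (g : Y)) :
    toW R hgen g = w := rp_inj R (rp_toW R hgen g) hg

theorem toW_surjective [Finite W] (R : RGD cs h p T n X) (hgen : RGD.B cs h T X ⊔ NN cs R.nsys = ⊤) :
    Function.Surjective (toW R hgen) := by
  intro w
  obtain ⟨g, hg⟩ := exists_rp cs R.nsys w
  exact ⟨⟨g, w, hg⟩, toW_eq R hgen hg⟩

/-- **The building of a root group datum.** -/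
theorem exists_bldg [Finite W] (R : RGD cs h p T n X) (hgen : RGD.B cs h T X ⊔ NN cs R.nsys = ⊤) :
    ∃ Δ : Bldg cs (Y ⧸ RGD.B cs h T X),
      (∀ (g : Y) (x y : Y ⧸ RGD.B cs h T X), Δ.δ (g • x) (g • y) = Δ.δ x y) ∧
      (∀ x y x' y', Δ.δ x y = Δ.δ x' y' → ∃ g : Y, g • x = x' ∧ g • y = y') ∧
      (∀ (a b k : Y) (w : W), Rp cs R.nsys w k → (Δ.δ (QuotientGroup.mk a) (QuotientGroup.mk b) = w ↔
        ∃ b₁ ∈ RGD.B cs h T X, ∃ b₂ ∈ RGD.B cs h T X, a⁻¹ * b = b₁ * k * b₂)) := by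
  set P := R.bnPair hgen with hP
  have hker : ((P.B ⊓ P.N).subgroupOf P.N) = (toW R hgen).ker := by
    ext g
    rw [Subgroup.mem_subgroupOf, MonoidHom.mem_ker]
    constructor
    · intro hg
      exact R.eq_one_of_mem_B (rp_toW R hgen g) (Subgroup.mem_inf.1 hg).1
    · intro hg
      have h1 := rp_toW R hgen g
      rw [hg] at h1
      exact Subgroup.mem_inf.2 ⟨RGD.T_le_B h1.mem_of_one, g.2⟩
  have hn : ((P.B ⊓ P.N).subgroupOf P.N).Normal := by
    rw [hker]; exact MonoidHom.normal_ker _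
  have hn' : (toW R hgen).ker.Normal := MonoidHom.normal_ker _
  let F : WP P ≃* W := (QuotientGroup.quotientMulEquivOfEq hker).trans
    (QuotientGroup.quotientKerEquivOfSurjective _ (toW_surjective R hgen))
  have hF : ∀ g : P.N, F (QuotientGroup.mk g) = toW R hgen g := fun g => rfl
  let e : I ≃ P.S := Equiv.ofInjective n R.n_injective
  let cs' : CoxeterSystem M (WP P) := cs.map F.symm
  have hcs' : ∀ i, cs'.simple i = QuotientGroup.mk (⟨(e i : Y), P.subset (e i).2⟩ : P.N) := by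
    intro i
    show F.symm (cs.simple i) = _
    rw [MulEquiv.symm_apply_eq]
    exact (toW_eq R hgen (g := ⟨n i, _, rp_simple cs R.nsys i⟩) (rp_simple cs R.nsys i)).symm
  have hf : ∀ i, F (cs'.simple i) = cs.simple i := by
    intro i
    show F (F.symm (cs.simple i)) = _
    rw [MulEquiv.apply_symm_apply]
  let Δ0 : Bldg cs' (Y ⧸ P.B) := bldg P e cs' hcs'
  let Δ : Bldg cs (Y ⧸ P.B) := bldgMap cs' cs F hf Δ0
  refine ⟨Δ, fun g x y => congrArg F (dist_smul P g x y), fun x y x' y' hxy => trans P x y x' y' (F.injective hxy), ?_⟩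
  intro a b k w hk
  have h1 : Δ.δ (QuotientGroup.mk a) (QuotientGroup.mk b) = F (wt P (a⁻¹ * b)) := by
    show F (dist P (QuotientGroup.mk a) (QuotientGroup.mk b)) = _
    rw [dist_mk]
  have h2 : F (QuotientGroup.mk (⟨k, w, hk⟩ : P.N)) = w := by
    rw [hF]; exact toW_eq R hgen hk
  refine Iff.trans (Eq.congr_left h1) ?_
  constructor
  · intro h3
    have h4 : wt P (a⁻¹ * b) = QuotientGroup.mk (⟨k, w, hk⟩ : P.N) := F.injective (by rw [h3, h2])
    obtain ⟨b₁, hb₁, b₂, hb₂, h5⟩ := mem_C.1 (mem_C_of_wt P h4)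
    exact ⟨b₁, hb₁, b₂, hb₂, h5⟩
  · rintro ⟨b₁, hb₁, b₂, hb₂, h5⟩
    have h4 : wt P (a⁻¹ * b) = QuotientGroup.mk (⟨k, w, hk⟩ : P.N) :=
      wt_of_mem P (mem_C.2 ⟨b₁, hb₁, b₂, hb₂, h5⟩)
    rw [h4, h2]

/-- **The Steinberg character** of a finite group with a root group datum. -/
theorem exists_char [Finite W] [Finite Y] (R : RGD cs h p T n X) (hgen : RGD.B cs h T X ⊔ NN cs R.nsys = ⊤) :
    ∃ χ : Y → ℂ, IsIrrCharacter Y χ ∧ χ 1 = Nat.card (RGD.Sup X (RGD.Pos cs h)) ∧
      (∀ u ∈ RGD.Sup X (RGD.Pos cs h), u ≠ 1 → χ u = 0) ∧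
      (∀ b ∈ RGD.B cs h T X, χ b = (Nat.card {u : RGD.Sup X (RGD.Pos cs h) // (u : Y)⁻¹ * b * u ∈ T} : ℂ)) := by
  obtain ⟨Δ, hiso, htr, hδ⟩ := exists_bldg R hgen
  -- an apartment
  choose k hk using fun w : W => exists_rp cs R.nsys w
  have ha : ∀ v w, Δ.δ (QuotientGroup.mk (k v)) (QuotientGroup.mk (k w)) = v⁻¹ * w := by
    intro v w
    rw [hδ _ _ _ _ ((hk v).inv.mul (hk w))]
    exact ⟨1, one_mem _, 1, one_mem _, by group⟩
  obtain ⟨χ, hirr, hχ⟩ := SteinbergMod.exists_char Δ hiso htr (a := fun w => QuotientGroup.mk (k w)) ha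
  set U := RGD.Sup X (RGD.Pos cs h) with hU
  have hUB : U ≤ RGD.B cs h T X := RGD.U_le_B
  set k0 := k (w0 cs) with hk0
  -- `U → opposite chambers`
  have hopp : ∀ g : Y, Δ.Opp (QuotientGroup.mk 1) (QuotientGroup.mk g) ↔
      ∃ u : U, (QuotientGroup.mk g : Y ⧸ RGD.B cs h T X) = QuotientGroup.mk ((u : Y) * k0) := by
    intro g
    unfold Bldg.Opp
    rw [hδ _ _ _ _ (hk (w0 cs))]
    constructor
    · rintro ⟨b₁, hb₁, b₂, hb₂, e⟩
      obtain ⟨t, ht, u, hu, e'⟩ := R.mem_B.1 (inv_mem hb₁)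
      have h1 : b₁ = u⁻¹ * t⁻¹ := by rw [← inv_inv b₁, e']; group
      refine ⟨⟨u⁻¹, inv_mem hu⟩, ?_⟩
      rw [eq_comm, QuotientGroup.eq]
      have h2 : (u⁻¹ * k0)⁻¹ * g = (k0⁻¹ * t⁻¹ * k0) * b₂ := by
        have h3 : g = b₁ * k0 * b₂ := by rw [← e]; group
        rw [h3, h1]; group
      rw [h2]
      refine mul_mem (RGD.T_le_B ?_) hb₂
      have h4 := (Subgroup.mem_normalizer_iff.1 (hk (w0 cs)).inv.mem_normalizer t⁻¹).1 (inv_mem ht)
      rwa [inv_inv] at h4
    · rintro ⟨u, hu⟩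
      rw [eq_comm, QuotientGroup.eq] at hu
      refine ⟨u, hUB u.2, _, hu, ?_⟩
      rw [← hk0]; group
  have hinj : ∀ (b : Y) (u : U), b ∈ RGD.B cs h T X → ((QuotientGroup.mk (b * ((u : Y) * k0)) : Y ⧸ RGD.B cs h T X) =
      QuotientGroup.mk ((u : Y) * k0) ↔ (u : Y)⁻¹ * b * u ∈ T) := by
    intro b u hb
    rw [eq_comm, QuotientGroup.eq]
    have h1 : ((u : Y) * k0)⁻¹ * (b * ((u : Y) * k0)) = k0⁻¹ * ((u : Y)⁻¹ * b * u) * k0 := by group
    rw [h1, ← mem_cj, cj_B R (hk (w0 cs))]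
    have h2 : (u : Y)⁻¹ * b * u ∈ RGD.B cs h T X := mul_mem (mul_mem (inv_mem (hUB u.2)) hb) (hUB u.2)
    constructor
    · intro h3
      rw [← B_inf_BN R]
      exact ⟨h2, h3⟩
    · intro h3
      exact T_le_BN h3
  have hinj' : ∀ u u' : U, (QuotientGroup.mk ((u : Y) * k0) : Y ⧸ RGD.B cs h T X) =
      QuotientGroup.mk ((u' : Y) * k0) → u = u' := by
    intro u u' he
    rw [QuotientGroup.eq] at he
    have h1 : ((u : Y) * k0)⁻¹ * ((u' : Y) * k0) = k0⁻¹ * ((u : Y)⁻¹ * u') * k0 := by group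
    rw [h1, ← mem_cj, cj_B R (hk (w0 cs))] at he
    have h2 := eq_one_of_mem_U_of_mem_BN R (mul_mem (inv_mem u.2) u'.2) he
    exact Subtype.ext (inv_mul_eq_one.1 h2)
  have hB : ∀ b ∈ RGD.B cs h T X, χ b = (Nat.card {u : U // (u : Y)⁻¹ * b * u ∈ T} : ℂ) := by
    intro b hb
    have hfix : b • (QuotientGroup.mk 1 : Y ⧸ RGD.B cs h T X) = QuotientGroup.mk 1 := by
      show (QuotientGroup.mk (b * 1) : Y ⧸ RGD.B cs h T X) = QuotientGroup.mk 1
      rw [eq_comm, QuotientGroup.eq]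
      simpa using hb
    rw [hχ _ b hfix]
    congr 1
    symm
    refine Nat.card_congr (Equiv.ofBijective (fun u : {u : U // (u : Y)⁻¹ * b * u ∈ T} =>
      (⟨QuotientGroup.mk ((u.1 : Y) * k0), (hopp _).2 ⟨u.1, rfl⟩, (hinj b u.1 hb).2 u.2⟩ :
        {y : Y ⧸ RGD.B cs h T X // Δ.Opp (QuotientGroup.mk 1) y ∧ b • y = y})) ⟨?_, ?_⟩)
    · intro u u' he
      exact Subtype.ext (hinj' _ _ (congrArg Subtype.val he))
    · rintro ⟨y, hy1, hy2⟩
      induction y using QuotientGroup.induction_on with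
      | _ g =>
      obtain ⟨u, hu⟩ := (hopp g).1 hy1
      refine ⟨⟨u, (hinj b u hb).1 ?_⟩, Subtype.ext hu.symm⟩
      rw [hu] at hy2
      exact hy2
  refine ⟨χ, hirr, ?_, ?_, hB⟩
  · rw [hB 1 (one_mem _)]
    congr 1
    refine Nat.card_congr ((Equiv.Set.univ U).symm.trans (Equiv.subtypeEquivRight ?_)).symm
    intro u
    simp [one_mem]
  · intro u hu hu1
    rw [hB u (hUB hu)]
    have hE : IsEmpty {v : U // (v : Y)⁻¹ * u * v ∈ T} := by
      constructor
      rintro ⟨v, hv⟩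
      have h1 : (v : Y)⁻¹ * u * v ∈ U ⊓ T :=
        Subgroup.mem_inf.2 ⟨mul_mem (mul_mem (inv_mem v.2) hu) v.2, hv⟩
      rw [U_inf_T R, Subgroup.mem_bot] at h1
      apply hu1
      have h2 : u = v * ((v : Y)⁻¹ * u * v) * (v : Y)⁻¹ := by group
      rw [h2, h1]; group
    rw [Nat.card_of_isEmpty, Nat.cast_zero]

/-- The Steinberg character and the Sylow `p`-subgroups. -/
theorem exists_char_sylow [Finite W] [Finite Y] [Fact p.Prime] (R : RGD cs h p T n X)
    (hgen : (⨆ z : {x // IsRoot cs h x}, X z.1) = ⊤) :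
    ∃ χ : Y → ℂ, IsIrrCharacter Y χ ∧ ∀ P : Sylow p Y, χ 1 = Nat.card P ∧ ∀ x : Y, x ∈ P → x ≠ 1 → χ x = 0 := by
  obtain ⟨χ, hirr, h1, h2, -⟩ := exists_char R (FixBN.NodeRGD.gen_of_top R hgen)
  refine ⟨χ, hirr, fun P => ?_⟩
  obtain ⟨S, hS⟩ := R.isPGroup_Upos.exists_le_sylow
  have hGG : Nodes.Bruhat.GG cs h T X = ⊤ := by
    rw [eq_top_iff, ← hgen]
    exact iSup_le fun z => Nodes.Bruhat.X_le_GG z.2
  have hSU : (S : Subgroup Y) = RGD.Sup X (RGD.Pos cs h) :=
    Nodes.NormalForm.eq_U_of_isPGroup R S.isPGroup' hS (by rw [hGG]; exact le_top)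
  obtain ⟨g, hg⟩ := MulAction.exists_smul_eq Y S P
  have hcl := Characters.Core.isIrr_isClassFunction hirr
  constructor
  · rw [h1, ← hSU]
    congr 1
    exact Nat.card_congr (S.equiv P).toEquiv
  · intro x hx hx1
    rw [← hg] at hx
    have hx' : x ∈ g • S := hx
    rw [← SetLike.mem_coe, Sylow.coe_smul] at hx'
    obtain ⟨u, hu, rfl⟩ := hx'
    have h3 : χ (MulAut.conj g • u) = χ u := by
      rw [MulAut.smul_def, MulAut.conj_apply]
      exact hcl u g
    rw [h3]
    apply h2 u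
    · rw [← hSU]; exact hu
    · rintro rfl
      apply hx1
      simp

end RGDSec

/-- **The Steinberg character** of a finite group with `HasRGD p G`: irreducible of degree the order of a Sylow
`p`-subgroup, vanishing on its non-identity elements. -/
theorem steinberg_of_hasRGD {p : ℕ} [Fact p.Prime] {G : Type*} [Group G] [Finite G]
    (hG : Nodes.RGDChev.HasRGD p G) :
    ∃ χ : G → ℂ, IsIrrCharacter G χ ∧ ∀ P : Sylow p G, χ 1 = Nat.card P ∧ ∀ x : G, x ∈ P → x ≠ 1 → χ x = 0 := by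
  obtain ⟨l, M, A, h, T, n, X, hW, R, hX⟩ := hG
  exact exists_char_sylow R hX

end Cfsg.Agent.H167.SteinbergRGD
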