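import Cfsg.Prelude.Def_Characters
import Cfsg.Prelude.Def_Perm
import Cfsg.Agent.Characters.Core
import Cfsg.Agent.PermutationGroups.PermChar
import Cfsg.Agent.Tits.Gate
set_option linter.all false

/-!
# The Steinberg module of a finite building (helper167)

`Harm Δ` : the functions on the chambers of a finite building whose sum over every panel is zero.

* `eq_zero_of_opp` : a function in `Harm Δ` is determined by its values on the chambers opposite to a given chamber;
* `aptFun_mem` : the alternating functions of the apartments are in `Harm Δ`;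
* `restr_bijective` : restriction to the chambers opposite to `c` is bijective;
* `irreducible` : if a finite group acts strongly transitively, `Harm Δ` is irreducible;
* `exists_char` : **the Steinberg character** `χ` : irreducible, `χ g` = number of chambers opposite to `x` fixed by
  `g` whenever `g` fixes the chamber `x`.
-/

set_option autoImplicit false
set_option linter.unusedSectionVars false

namespace Cfsg.Agent.H167.SteinbergMod

open Cfsg Cfsg.Agent.Tits.Core Cfsg.Agent.Tits.Core.Bldg Cfsg.Agent.Tits.Exchange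

variable {I : Type*} {M : CoxeterMatrix I} {W : Type*} [Group W] {cs : CoxeterSystem M W} {C : Type*}

section Harm

variable [Fintype C] (Δ : Bldg cs C)

open Classical in
/-- The functions on the chambers whose sum over every panel is zero. -/
noncomputable def Harm : Submodule ℂ (C → ℂ) where
  carrier := {f | ∀ i x, ∑ y, (if y ∈ Δ.Pan i x then f y else 0) = 0}
  add_mem' := by
    intro f g hf hg i x
    have h1 : ∑ y, (if y ∈ Δ.Pan i x then (f + g) y else 0) =
        ∑ y, (if y ∈ Δ.Pan i x then f y else 0) + ∑ y, (if y ∈ Δ.Pan i x then g y else 0) := by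
      rw [← Finset.sum_add_distrib]
      refine Finset.sum_congr rfl fun y _ => ?_
      by_cases h : y ∈ Δ.Pan i x
      · simp [h]
      · simp [h]
    rw [h1, hf i x, hg i x, add_zero]
  zero_mem' := by
    intro i x
    simp
  smul_mem' := by
    intro c f hf i x
    have h1 : ∑ y, (if y ∈ Δ.Pan i x then (c • f) y else 0) =
        c * ∑ y, (if y ∈ Δ.Pan i x then f y else 0) := by
      rw [Finset.mul_sum]
      refine Finset.sum_congr rfl fun y _ => ?_
      by_cases h : y ∈ Δ.Pan i x
      · simp [h]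
      · simp [h]
    rw [h1, hf i x, mul_zero]

open Classical in
theorem mem_Harm {f : C → ℂ} : f ∈ Harm Δ ↔ ∀ i x, ∑ y, (if y ∈ Δ.Pan i x then f y else 0) = 0 := Iff.rfl

/-- An element of a finite Coxeter group without right ascents is the longest element. -/
theorem exists_ascent [Finite W] {w : W} (hw : w ≠ w0 cs) : ∃ i, cs.length w < cs.length (w * cs.simple i) := by
  have h1 : w⁻¹ * w0 cs ≠ 1 := by
    intro h
    exact hw (inv_mul_eq_one.1 h)
  obtain ⟨i, hi⟩ := cs.exists_leftDescent_of_ne_one h1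
  refine ⟨i, ?_⟩
  have hi' : cs.length (cs.simple i * (w⁻¹ * w0 cs)) < cs.length (w⁻¹ * w0 cs) := hi
  have h2 := length_mul_w0 cs w⁻¹
  have h3 := length_mul_w0 cs (w * cs.simple i)⁻¹
  rw [cs.length_inv] at h2 h3
  have h4 : (w * cs.simple i)⁻¹ * w0 cs = cs.simple i * (w⁻¹ * w0 cs) := by
    rw [mul_inv_rev, cs.inv_simple, mul_assoc]
  rw [h4] at h3
  omega

/-- A function in `Harm Δ` vanishing on the chambers opposite to `c` is zero. -/
theorem eq_zero_of_opp [Finite W] {f : C → ℂ} (hf : f ∈ Harm Δ) (c : C) (h0 : ∀ y, Δ.Opp c y → f y = 0) : f = 0 := by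
  classical
  have key : ∀ (n : ℕ) (x : C), cs.length (w0 cs) ≤ cs.length (Δ.δ c x) + n → f x = 0 := by
    intro n
    induction n with
    | zero =>
      intro x hx
      exact h0 x (eq_w0_of_length cs (by omega))
    | succ n ih =>
      intro x hx
      by_cases hw : Δ.δ c x = w0 cs
      · exact h0 x hw
      obtain ⟨i, hi⟩ := exists_ascent (cs := cs) hw
      have h1 := (mem_Harm Δ).1 hf i x
      rw [Finset.sum_eq_single x] at h1
      · rwa [if_pos (Δ.self_mem_Pan i x)] at h1
      · intro y _ hy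
        by_cases hp : y ∈ Δ.Pan i x
        · rw [if_pos hp]
          have hδ : Δ.δ x y = cs.simple i := hp.resolve_left hy
          have h2 := Δ.step_lt c x y i hδ hi
          apply ih
          rw [h2]
          omega
        · rw [if_neg hp]
      · intro h
        exact absurd (Finset.mem_univ x) h
  funext x
  exact key (cs.length (w0 cs)) x (by omega)

/-! ### Apartments -/

open Classical in
/-- The alternating function of an apartment. -/
noncomputable def aptFun [Fintype W] (cs : CoxeterSystem M W) (a : W → C) : C → ℂ :=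
  fun x => ∑ w : W, if x = a w then (-1 : ℂ) ^ cs.length w else 0

theorem neg_one_pow_length (w : W) (i : I) :
    (-1 : ℂ) ^ cs.length (w * cs.simple i) = - (-1 : ℂ) ^ cs.length w := by
  rcases cs.length_mul_simple w i with h | h
  · rw [h, pow_succ]; ring
  · rw [← h, pow_succ]; ring

theorem aptFun_mem [Fintype W] {a : W → C} (ha : ∀ v w, Δ.δ (a v) (a w) = v⁻¹ * w) : aptFun cs a ∈ Harm Δ := by
  classical
  rw [mem_Harm]
  intro i x
  have h1 : ∑ y, (if y ∈ Δ.Pan i x then aptFun cs a y else 0) =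
      ∑ w : W, if a w ∈ Δ.Pan i x then (-1 : ℂ) ^ cs.length w else 0 := by
    have h2 : ∀ y, (if y ∈ Δ.Pan i x then aptFun cs a y else 0) =
        ∑ w : W, if y = a w then (if a w ∈ Δ.Pan i x then (-1 : ℂ) ^ cs.length w else 0) else 0 := by
      intro y
      by_cases hy : y ∈ Δ.Pan i x
      · rw [if_pos hy]
        unfold aptFun
        refine Finset.sum_congr rfl fun w _ => ?_
        by_cases hw : y = a w
        · rw [if_pos hw, if_pos hw, if_pos (hw ▸ hy)]
        · rw [if_neg hw, if_neg hw]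
      · rw [if_neg hy]
        symm
        apply Finset.sum_eq_zero
        intro w _
        by_cases hw : y = a w
        · rw [if_pos hw, if_neg (hw ▸ hy)]
        · rw [if_neg hw]
    rw [Finset.sum_congr rfl fun y _ => h2 y, Finset.sum_comm]
    refine Finset.sum_congr rfl fun w _ => ?_
    rw [Finset.sum_ite_eq' Finset.univ (a w)]
    simp
  rw [h1]
  have hpan : ∀ w : W, a w ∈ Δ.Pan i x → a (w * cs.simple i) ∈ Δ.Pan i x := by
    intro w hw
    refine Δ.mem_Pan_trans hw ?_
    right
    rw [ha]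
    group
  refine Finset.sum_involution (fun w _ => w * cs.simple i) ?_ ?_ ?_ ?_
  · intro w _
    by_cases hw : a w ∈ Δ.Pan i x
    · rw [if_pos hw, if_pos (hpan w hw), neg_one_pow_length]
      ring
    · rw [if_neg hw, if_neg, add_zero]
      intro h
      apply hw
      have := hpan _ h
      rwa [mul_assoc, cs.simple_mul_simple_self, mul_one] at this
  · intro w _ _ h
    have h1 : cs.simple i = 1 := by
      have h2 : w * cs.simple i = w * 1 := by rw [mul_one]; exact h
      exact mul_left_cancel h2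
    have h3 := cs.length_simple i
    rw [h1, cs.length_one] at h3
    exact absurd h3 (by norm_num)
  · intro w _
    exact Finset.mem_univ _
  · intro w _
    show w * cs.simple i * cs.simple i = w
    rw [mul_assoc, cs.simple_mul_simple_self, mul_one]

/-- The values of the alternating function of an apartment through `c` on the chambers opposite to `c`. -/
theorem aptFun_opp [Fintype W] {a : W → C} (ha : ∀ v w, Δ.δ (a v) (a w) = v⁻¹ * w) {z : C}
    (hz : Δ.Opp (a 1) z) [Decidable (z = a (w0 cs))] :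
    aptFun cs a z = if z = a (w0 cs) then (-1 : ℂ) ^ cs.length (w0 cs) else 0 := by
  classical
  have hinj : ∀ w, z = a w → w = w0 cs := by
    intro w hw
    have h1 : Δ.δ (a 1) z = w := by rw [hw, ha, inv_one, one_mul]
    rw [← h1]
    exact hz
  unfold aptFun
  by_cases h : z = a (w0 cs)
  · rw [if_pos h, Finset.sum_eq_single (w0 cs)]
    · rw [if_pos h]
    · intro w _ hw
      rw [if_neg]
      intro h2
      exact hw (hinj w h2)
    · intro h2
      exact absurd (Finset.mem_univ _) h2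
  · rw [if_neg h]
    apply Finset.sum_eq_zero
    intro w _
    rw [if_neg]
    intro h2
    rw [hinj w h2] at h2
    exact h h2

/-! ### Restriction to the opposite chambers -/

/-- Restriction to the chambers opposite to `c`. -/
noncomputable def restr (c : C) : Harm Δ →ₗ[ℂ] ({y // Δ.Opp c y} → ℂ) where
  toFun f := fun y => (f : C → ℂ) y
  map_add' _ _ := rfl
  map_smul' _ _ := rfl

theorem restr_apply (c : C) (f : Harm Δ) (y : {y // Δ.Opp c y}) : restr Δ c f y = (f : C → ℂ) y := rfl

theorem restr_injective [Finite W] (c : C) : Function.Injective (restr Δ c) := by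
  rw [← LinearMap.ker_eq_bot, LinearMap.ker_eq_bot']
  intro f hf
  apply Subtype.ext
  exact eq_zero_of_opp Δ f.2 c fun y hy => congrFun hf ⟨y, hy⟩

theorem restr_surjective [Finite W] (c : C)
    (hap : ∀ y, Δ.Opp c y → ∃ a : W → C, (∀ v w, Δ.δ (a v) (a w) = v⁻¹ * w) ∧ a 1 = c ∧ a (w0 cs) = y) :
    Function.Surjective (restr Δ c) := by
  classical
  have := Fintype.ofFinite W
  have : Fintype {y // Δ.Opp c y} := Fintype.ofFinite _
  rw [← LinearMap.range_eq_top, eq_top_iff]
  intro f _
  have h1 : f = ∑ y, f y • (Pi.single y (1 : ℂ) : {y // Δ.Opp c y} → ℂ) := by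
    funext z
    rw [Finset.sum_apply, Finset.sum_eq_single z]
    · simp
    · intro b _ hb
      simp [Pi.single_eq_of_ne hb.symm]
    · intro h
      exact absurd (Finset.mem_univ z) h
  rw [h1]
  refine Submodule.sum_mem _ fun y _ => Submodule.smul_mem _ _ ?_
  obtain ⟨a, ha, ha1, ha2⟩ := hap y y.2
  have hε : ((-1 : ℂ) ^ cs.length (w0 cs)) ≠ 0 := pow_ne_zero _ (by norm_num)
  have h2 : (Pi.single y (1 : ℂ) : {y // Δ.Opp c y} → ℂ) =
      ((-1 : ℂ) ^ cs.length (w0 cs))⁻¹ • restr Δ c ⟨aptFun cs a, aptFun_mem Δ ha⟩ := by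
    funext z
    rw [Pi.smul_apply, restr_apply]
    have hz : Δ.Opp (a 1) (z : C) := by rw [ha1]; exact z.2
    show _ = _ • aptFun cs a (z : C)
    rw [aptFun_opp Δ ha hz, ha2]
    by_cases h : z = y
    · subst h
      rw [Pi.single_eq_same, if_pos rfl, smul_eq_mul, inv_mul_cancel₀ hε]
    · rw [Pi.single_eq_of_ne h, if_neg, smul_zero]
      intro h2
      exact h (Subtype.ext h2)
  rw [h2]
  exact Submodule.smul_mem _ _ (LinearMap.mem_range_self _ _)

end Harm

/-! ### The representation -/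

section Rep

variable [Fintype C] (Δ : Bldg cs C) {G : Type*} [Group G] [MulAction G C]

theorem mem_Pan_smul (hiso : ∀ (g : G) (x y : C), Δ.δ (g • x) (g • y) = Δ.δ x y) (g : G) (i : I) (x y : C) :
    g • y ∈ Δ.Pan i (g • x) ↔ y ∈ Δ.Pan i x := by
  unfold Bldg.Pan
  simp only [Set.mem_ofPred_eq]
  rw [hiso, smul_left_cancel_iff]

theorem smul_mem_Harm (hiso : ∀ (g : G) (x y : C), Δ.δ (g • x) (g • y) = Δ.δ x y) (g : G) (f : C → ℂ)
    (hf : f ∈ Harm Δ) : permRep ℂ G C g f ∈ Harm Δ := by
  classical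
  rw [mem_Harm] at hf ⊢
  intro i x
  have h1 := hf i (g⁻¹ • x)
  refine Eq.trans ?_ h1
  refine Fintype.sum_equiv (MulAction.toPerm g⁻¹) _ _ fun y => ?_
  change (if y ∈ Δ.Pan i x then f (g⁻¹ • y) else 0) = if g⁻¹ • y ∈ Δ.Pan i (g⁻¹ • x) then f (g⁻¹ • y) else 0
  have := mem_Pan_smul Δ hiso g⁻¹ i x y
  by_cases h : y ∈ Δ.Pan i x
  · rw [if_pos h, if_pos (this.2 h)]
  · rw [if_neg h, if_neg (fun h2 => h (this.1 h2))]

/-- The Steinberg module, a subrepresentation of the permutation representation on the chambers. -/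
noncomputable def stRep (hiso : ∀ (g : G) (x y : C), Δ.δ (g • x) (g • y) = Δ.δ x y) :
    Representation ℂ G (Harm Δ) where
  toFun g := (permRep ℂ G C g).restrict (smul_mem_Harm Δ hiso g)
  map_one' := by ext; simp
  map_mul' x y := by ext; simp

theorem stRep_apply (hiso : ∀ (g : G) (x y : C), Δ.δ (g • x) (g • y) = Δ.δ x y) (g : G) (f : Harm Δ) (y : C) :
    ((stRep Δ hiso g f : Harm Δ) : C → ℂ) y = (f : C → ℂ) (g⁻¹ • y) := rfl

variable (hiso : ∀ (g : G) (x y : C), Δ.δ (g • x) (g • y) = Δ.δ x y)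

theorem opp_smul {x y : C} (hiso : ∀ (g : G) (x y : C), Δ.δ (g • x) (g • y) = Δ.δ x y) {g : G} (hg : g • x = x)
    (h : Δ.Opp x y) : Δ.Opp x (g • y) := by
  unfold Bldg.Opp at h ⊢
  conv_lhs => rw [← hg]
  rw [hiso]
  exact h

/-- The character of the Steinberg module on the stabiliser of a chamber. -/
theorem character_eq [Finite W] (c : C)
    (hap : ∀ y, Δ.Opp c y → ∃ a : W → C, (∀ v w, Δ.δ (a v) (a w) = v⁻¹ * w) ∧ a 1 = c ∧ a (w0 cs) = y)
    {g : G} (hg : g • c = c) :
    (stRep Δ hiso).character g = (Nat.card {y : C // Δ.Opp c y ∧ g • y = y} : ℂ) := by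
  classical
  have : Fintype {y // Δ.Opp c y} := Fintype.ofFinite _
  let e : Harm Δ ≃ₗ[ℂ] ({y // Δ.Opp c y} → ℂ) :=
    LinearEquiv.ofBijective (restr Δ c) ⟨restr_injective Δ c, restr_surjective Δ c hap⟩
  let b : Module.Basis {y // Δ.Opp c y} ℂ (Harm Δ) := Module.Basis.ofEquivFun e
  have hginv : g⁻¹ • c = c := by rw [inv_smul_eq_iff]; exact hg.symm
  have h1 : (stRep Δ hiso).character g =
      (LinearMap.toMatrix b b ((stRep Δ hiso) g)).trace :=
    LinearMap.trace_eq_matrix_trace ℂ b _
  have hb : ∀ y z : {y // Δ.Opp c y}, ((b y : Harm Δ) : C → ℂ) z = (Pi.single y (1 : ℂ) : {y // Δ.Opp c y} → ℂ) z := by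
    intro y z
    have h2 : e (b y) = Pi.single y 1 := by
      rw [Module.Basis.coe_ofEquivFun, LinearEquiv.apply_symm_apply]
    exact congrFun h2 z
  have h2 : ∀ y : {y // Δ.Opp c y}, (LinearMap.toMatrix b b ((stRep Δ hiso) g)).diag y =
      if g • (y : C) = y then 1 else 0 := by
    intro y
    rw [Matrix.diag_apply, LinearMap.toMatrix_apply]
    have h3 : (b.repr ((stRep Δ hiso) g (b y))) y =
        ((b y : Harm Δ) : C → ℂ) (g⁻¹ • (y : C)) := rfl
    rw [h3, hb y ⟨g⁻¹ • (y : C), opp_smul Δ hiso hginv y.2⟩]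
    by_cases h4 : g • (y : C) = y
    · rw [if_pos h4]
      have h5 : (⟨g⁻¹ • (y : C), opp_smul Δ hiso hginv y.2⟩ : {y // Δ.Opp c y}) = y := by
        apply Subtype.ext
        show g⁻¹ • (y : C) = y
        rw [inv_smul_eq_iff]; exact h4.symm
      rw [h5, Pi.single_eq_same]
    · rw [if_neg h4, Pi.single_eq_of_ne]
      intro h5
      apply h4
      have h6 := congrArg Subtype.val h5
      change g⁻¹ • (y : C) = y at h6
      rw [inv_smul_eq_iff] at h6
      exact h6.symm
  rw [h1, Matrix.trace, Finset.sum_congr rfl fun y _ => h2 y, Finset.sum_boole]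
  congr 1
  rw [← Fintype.card_subtype, ← Nat.card_eq_fintype_card]
  exact Nat.card_congr (Equiv.subtypeSubtypeEquivSubtypeInter (fun y => Δ.Opp c y) (fun y => g • y = y))

include hiso in
/-- **The Steinberg module is irreducible.** -/
theorem irreducible [Finite W] [Finite G] (c : C)
    (hap : ∀ y, Δ.Opp c y → ∃ a : W → C, (∀ v w, Δ.δ (a v) (a w) = v⁻¹ * w) ∧ a 1 = c ∧ a (w0 cs) = y)
    (hne : ∃ y, Δ.Opp c y)
    (htr : ∀ x y x' y', Δ.δ x y = Δ.δ x' y' → ∃ g : G, g • x = x' ∧ g • y = y') :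
    (stRep Δ hiso).IsIrreducible := by
  classical
  obtain ⟨y0, hy0⟩ := hne
  set σ := stRep Δ hiso with hσ
  -- a nonzero subrepresentation contains a nonzero function invariant under the stabiliser of `c`
  have key : ∀ S : Subrepresentation σ, S.toSubmodule ≠ ⊥ → ∃ f : Harm Δ, f ∈ S.toSubmodule ∧ (f : C → ℂ) y0 ≠ 0 ∧
      ∀ g : G, g • c = c → ∀ y, (f : C → ℂ) (g • y) = (f : C → ℂ) y := by
    intro S hS
    obtain ⟨f, hfS, hf0⟩ := Submodule.exists_mem_ne_zero_of_ne_bot hS
    have hf1 : ∃ x, (f : C → ℂ) x ≠ 0 := by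
      by_contra hcon
      push Not at hcon
      exact hf0 (Subtype.ext (funext hcon))
    obtain ⟨x, hx⟩ := hf1
    obtain ⟨g, hg, -⟩ := htr c c x x (by rw [(Δ.eq_one c c).2 rfl, (Δ.eq_one x x).2 rfl])
    have : Fintype (MulAction.stabilizer G c) := Fintype.ofFinite _
    let f2 : Harm Δ := ∑ b : MulAction.stabilizer G c, σ (b : G) (σ g⁻¹ f)
    have hf2S : f2 ∈ S.toSubmodule :=
      Submodule.sum_mem _ fun b _ => S.apply_mem_toSubmodule _ (S.apply_mem_toSubmodule _ hfS)
    have hf2 : ∀ y, (f2 : C → ℂ) y = ∑ b : MulAction.stabilizer G c, (f : C → ℂ) (g • (b : G)⁻¹ • y) := by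
      intro y
      have h1 : (f2 : C → ℂ) = ∑ b : MulAction.stabilizer G c, ((σ (b : G) (σ g⁻¹ f) : Harm Δ) : C → ℂ) := by
        exact Submodule.coe_sum (Harm Δ) (fun b : MulAction.stabilizer G c => σ (b : G) (σ g⁻¹ f)) Finset.univ
      rw [h1, Finset.sum_apply]
      refine Finset.sum_congr rfl fun b _ => ?_
      change (f : C → ℂ) (g⁻¹⁻¹ • (b : G)⁻¹ • y) = _
      rw [inv_inv]
    have hinv : ∀ h : G, h • c = c → ∀ y, (f2 : C → ℂ) (h • y) = (f2 : C → ℂ) y := by
      intro h hh y
      rw [hf2, hf2]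
      refine Fintype.sum_equiv (Equiv.mulLeft (⟨h, hh⟩ : MulAction.stabilizer G c)⁻¹) _ _ fun b => ?_

      rw [Equiv.coe_mulLeft, Subgroup.coe_mul, Subgroup.coe_inv, mul_inv_rev, inv_inv, mul_smul]
    have hc : (f2 : C → ℂ) c ≠ 0 := by
      rw [hf2]
      have h1 : ∀ b : MulAction.stabilizer G c, (f : C → ℂ) (g • (b : G)⁻¹ • c) = (f : C → ℂ) x := by
        intro b
        have h2 : (b : G)⁻¹ • c = c := by rw [inv_smul_eq_iff]; exact (b.2 : (b : G) • c = c).symm
        rw [h2, hg]
      rw [Finset.sum_congr rfl fun b _ => h1 b, Finset.sum_const, Finset.card_univ, nsmul_eq_mul]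
      exact mul_ne_zero (Nat.cast_ne_zero.2 Fintype.card_ne_zero) hx
    refine ⟨f2, hf2S, ?_, hinv⟩
    intro h0
    apply hc
    have h2 : (f2 : C → ℂ) = 0 := by
      refine eq_zero_of_opp Δ f2.2 c fun y hy => ?_
      obtain ⟨b, hb1, hb2⟩ := htr c y0 c y (hy0.trans hy.symm)
      rw [← hb2, hinv b hb1, h0]
    rw [h2]
    rfl
  have hnt : Nontrivial (Harm Δ) := by
    have : Nonempty {y // Δ.Opp c y} := ⟨⟨y0, hy0⟩⟩
    exact (restr_surjective Δ c hap).nontrivial
  have hntS : Nontrivial (Subrepresentation σ) := by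
    refine ⟨⊥, ⊤, ?_⟩
    intro h
    have h1 := congrArg Subrepresentation.toSubmodule h
    change (⊥ : Submodule ℂ (Harm Δ)) = ⊤ at h1
    exact bot_ne_top h1
  refine { hntS with eq_bot_or_eq_top := ?_ }
  intro S
  obtain ⟨S', hS'⟩ := Cfsg.Agent.Characters.Core.exists_isCompl_sub S
  by_cases h1 : S.toSubmodule = ⊥
  · left
    exact Subrepresentation.toSubmodule_injective h1
  by_cases h2 : S'.toSubmodule = ⊥
  · right
    apply Subrepresentation.toSubmodule_injective
    have h3 := hS'.sup_eq_top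
    rw [h2, sup_bot_eq] at h3
    exact h3
  exfalso
  obtain ⟨f, hf, hf0, hfi⟩ := key S h1
  obtain ⟨f', hf', hf0', hfi'⟩ := key S' h2
  have h3 : (f' : C → ℂ) y0 • f - (f : C → ℂ) y0 • f' = 0 := by
    apply Subtype.ext
    refine eq_zero_of_opp Δ ((f' : C → ℂ) y0 • f - (f : C → ℂ) y0 • f').2 c fun y hy => ?_
    obtain ⟨b, hb1, hb2⟩ := htr c y0 c y (hy0.trans hy.symm)
    change (f' : C → ℂ) y0 * (f : C → ℂ) y - (f : C → ℂ) y0 * (f' : C → ℂ) y = 0
    rw [← hb2, hfi b hb1, hfi' b hb1]
    ring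
  have h4 : (f' : C → ℂ) y0 • f = (f : C → ℂ) y0 • f' := sub_eq_zero.1 h3
  have h5 : (f' : C → ℂ) y0 • f ∈ S.toSubmodule ⊓ S'.toSubmodule := by
    refine ⟨Submodule.smul_mem _ _ hf, ?_⟩
    rw [h4]
    exact Submodule.smul_mem _ _ hf'
  rw [hS'.inf_eq_bot, Submodule.mem_bot] at h5
  have h6 : f = 0 := (smul_eq_zero.1 h5).resolve_left hf0'
  apply hf0
  rw [h6]
  rfl

end Rep

/-- **The Steinberg character** of a finite group acting strongly transitively on a finite building: an irreducible
character `χ` such that, whenever `g` fixes the chamber `x`, the value `χ g` is the number of chambers opposite to `x`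
which are fixed by `g`. -/
theorem exists_char [Finite C] [Finite W] (Δ : Bldg cs C) {G : Type*} [Group G] [MulAction G C] [Finite G]
    (hiso : ∀ (g : G) (x y : C), Δ.δ (g • x) (g • y) = Δ.δ x y)
    (htr : ∀ x y x' y', Δ.δ x y = Δ.δ x' y' → ∃ g : G, g • x = x' ∧ g • y = y')
    {a : W → C} (ha : ∀ v w, Δ.δ (a v) (a w) = v⁻¹ * w) :
    ∃ χ : G → ℂ, IsIrrCharacter G χ ∧
      ∀ (x : C) (g : G), g • x = x → χ g = (Nat.card {y : C // Δ.Opp x y ∧ g • y = y} : ℂ) := by
  have := Fintype.ofFinite C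
  have hap : ∀ c y, Δ.Opp c y → ∃ a : W → C, (∀ v w, Δ.δ (a v) (a w) = v⁻¹ * w) ∧ a 1 = c ∧ a (w0 cs) = y := by
    intro c y hy
    obtain ⟨g, h1, h2⟩ := htr (a 1) (a (w0 cs)) c y (by rw [ha, inv_one, one_mul]; exact hy.symm)
    exact ⟨fun w => g • a w, fun v w => by rw [hiso, ha], h1, h2⟩
  refine ⟨(stRep Δ hiso).character,
    Cfsg.Agent.Characters.Core.isIrrCharacter_of_rep _ (irreducible Δ hiso (a 1) (hap _)
      ⟨a (w0 cs), by unfold Bldg.Opp; rw [ha, inv_one, one_mul]⟩ htr), ?_⟩
  intro x g hg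
  exact character_eq Δ hiso x (hap x) hg

end Cfsg.Agent.H167.SteinbergMod
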