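import Cfsg.Prelude.Def_ParabolicCharacters
import Cfsg.Agent.H167.AltTrace
import Cfsg.Agent.H167.SteinbergMod
set_option linter.all false

/-!
# The alternating sum formula for the Steinberg character of a building (helper167)

* `resSys` : the system of the residues of type `⊆ T` of a union of `T`-residues of a building, with gates from `c`;
* `character_alt` : the character of the Steinberg module of a finite building at `g` is
  `∑ K, (-1) ^ |K| * (number of K-residues fixed by g)`;
* `exists_char_alt` : a finite group acting strongly transitively on a finite building; the class function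
  `∑ K, (-1) ^ |K| * 1_{P_K}^G` is irreducible and has the value `#{y | Opp x y, g • y = y}` at `g` whenever
  `g` fixes `x`.
-/

set_option autoImplicit false
set_option linter.unusedSectionVars false
set_option linter.unusedVariables false

namespace Cfsg.Agent.H167.AltBldg

open Cfsg Cfsg.Agent.Tits.Core Cfsg.Agent.Tits.Core.Bldg Cfsg.Agent.Tits.Exchange Cfsg.Agent.H167.AltTrace
  Cfsg.Agent.H167.SteinbergMod

variable {I : Type*} [DecidableEq I] {M : CoxeterMatrix I} {W : Type*} [Group W] {cs : CoxeterSystem M W}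
  {C : Type*}

open Classical in
/-- The system of the residues of type `⊆ T`, with gates from `c`. -/
noncomputable def resSys (Δ : Bldg cs C) (T : Finset I) {E : Type*} (φ : E → C) (hinj : Function.Injective φ)
    (hφ : ∀ x y, Δ.δ (φ x) y ∈ WJ cs (T : Set I) → ∃ x', φ x' = y) (c : C) : Sys E T where
  r K x y := Δ.δ (φ x) (φ y) ∈ WJ cs (K : Set I)
  equiv K _ := ⟨fun x => Δ.self_mem_Res _ _, fun h => Δ.mem_Res_symm h, fun h h' => Δ.mem_Res_trans h h'⟩
  mono K L hKL _ x y h := WJ_mono cs (Finset.coe_subset.2 hKL) h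
  N x := T.filter fun i => cs.length (Δ.δ c (φ x)) < cs.length (Δ.δ c (φ x) * cs.simple i)
  N_sub x := Finset.filter_subset _ _
  len x := cs.length (Δ.δ c (φ x))
  gate K hK x := by
    have h1 := Δ.proj_mem (K : Set I) (φ x) c
    obtain ⟨x', hx'⟩ := hφ x _ (WJ_mono cs (Finset.coe_subset.2 hK) h1)
    refine ⟨x', ?_, ?_⟩
    · rw [hx']
      exact h1
    · intro i hi
      have h2 := Δ.isMinR_δ_proj (K : Set I) (φ x) c
      rw [isMinR_iff] at h2
      simp only [Finset.mem_filter]
      refine ⟨hK hi, ?_⟩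
      rw [hx']
      exact h2 i (Finset.mem_coe.2 hi)
  gate_lt K hK y z hy hyz hne := by
    have h1 : IsMinR cs (K : Set I) (Δ.δ c (φ y)) := by
      rw [isMinR_iff]
      intro i hi
      have := hy (Finset.mem_coe.1 hi)
      simp only [Finset.mem_filter] at this
      exact this.2
    have h2 := Δ.isProj_of_isMinR (Δ.self_mem_Res (K : Set I) (φ y)) h1
    have h3 := h2.length_eq hyz
    have h4 : cs.length (Δ.δ (φ y) (φ z)) ≠ 0 := by
      intro h
      rw [cs.length_eq_zero_iff, Δ.eq_one] at h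
      exact hne (hinj h.symm)
    omega

section Full

variable [Fintype I] [Fintype C] (Δ : Bldg cs C)

/-- The system of all residues. -/
noncomputable def bSys (c : C) : Sys C (Finset.univ : Finset I) :=
  resSys Δ Finset.univ (fun x => x) (fun _ _ h => h) (fun _ y _ => ⟨y, rfl⟩) c

theorem r_bSys (c : C) (K : Finset I) (x y : C) : (bSys Δ c).r K x y ↔ Δ.δ x y ∈ WJ cs (K : Set I) := Iff.rfl

theorem mem_N_bSys (c x : C) (i : I) :
    i ∈ (bSys Δ c).N x ↔ cs.length (Δ.δ c x) < cs.length (Δ.δ c x * cs.simple i) := by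
  classical
  unfold bSys resSys
  simp

theorem harm_bSys (c : C) : (bSys Δ c).harm = Harm Δ := by
  classical
  ext f
  rw [Sys.mem_harm, mem_Harm]
  have h1 : ∀ i x y, (bSys Δ c).r {i} x y ↔ y ∈ Δ.Pan i x := by
    intro i x y
    rw [r_bSys, Δ.Pan_eq_Res, Δ.mem_Res, Finset.coe_singleton]
  have h2 : ∀ i x, ∑ y, (if (bSys Δ c).r {i} x y then f y else 0) = ∑ y, (if y ∈ Δ.Pan i x then f y else 0) := by
    intro i x
    refine Finset.sum_congr rfl fun y _ => ?_
    by_cases h : y ∈ Δ.Pan i x
    · rw [if_pos h, if_pos ((h1 i x y).2 h)]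
    · rw [if_neg h, if_neg (fun h3 => h ((h1 i x y).1 h3))]
  constructor
  · intro h i x
    rw [← h2]
    exact h i (Finset.mem_univ i) x
  · intro h i _ x
    rw [h2]
    exact h i x

variable {G : Type*} [Group G] [MulAction G C]
  (hiso : ∀ (g : G) (x y : C), Δ.δ (g • x) (g • y) = Δ.δ x y)

theorem trace_congr {V : Type*} [AddCommGroup V] [Module ℂ V] {A B : Submodule ℂ V} (h : A = B) (g : V →ₗ[ℂ] V)
    (hA : ∀ v ∈ A, g v ∈ A) (hB : ∀ v ∈ B, g v ∈ B) :
    LinearMap.trace ℂ A (g.restrict hA) = LinearMap.trace ℂ B (g.restrict hB) := by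
  subst h
  rfl

/-- **The alternating sum formula** for the character of the Steinberg module of a finite building. -/
theorem character_alt (c : C) (g : G) :
    (stRep Δ hiso).character g = ∑ K ∈ (Finset.univ : Finset I).powerset, (-1 : ℂ) ^ K.card *
      (Nat.card {x // K ⊆ (bSys Δ c).N x ∧ Δ.δ x (g • x) ∈ WJ cs (K : Set I)} : ℂ) := by
  have : Nonempty C := ⟨c⟩
  have hr : ∀ K, K ⊆ (Finset.univ : Finset I) → ∀ (g : G) (x y : C), (bSys Δ c).r K x y →
      (bSys Δ c).r K (g • x) (g • y) := by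
    intro K _ g x y h
    rw [r_bSys] at h ⊢
    rwa [hiso]
  have h1 := (bSys Δ c).trace_harm hr g
  refine Eq.trans ?_ h1
  exact trace_congr (harm_bSys Δ c).symm (permRep ℂ G C g) (smul_mem_Harm Δ hiso g) ((bSys Δ c).smul_mem_harm hr g)

include hiso in
/-- The number of `K`-residues fixed by `g`, for a transitive action. -/
theorem card_fixed (c : C) (htr : ∀ x y : C, ∃ g : G, g • x = y) (K : Finset I) (P : Subgroup G)
    (hP : ∀ g : G, g ∈ P ↔ Δ.δ c (g • c) ∈ WJ cs (K : Set I)) (g : G) :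
    Nat.card {x // K ⊆ (bSys Δ c).N x ∧ Δ.δ x (g • x) ∈ WJ cs (K : Set I)} =
      Nat.card (MulAction.fixedBy (G ⧸ P) g) := by
  set S := bSys Δ c with hS
  have hK : K ⊆ (Finset.univ : Finset I) := Finset.subset_univ K
  have hr : ∀ (g : G) (x y : C), S.r K x y → S.r K (g • x) (g • y) := by
    intro g x y h
    rw [hS, r_bSys] at h ⊢
    rwa [hiso]
  have hr2 : ∀ (g : G) (x y : C), S.r K (g • x) (g • y) → S.r K x y := by
    intro g x y h
    have := hr g⁻¹ _ _ h
    rwa [inv_smul_smul, inv_smul_smul] at this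
  have heq := S.equiv K hK
  -- the map
  let F : G ⧸ P → C := fun q => (S.gt hK (q.out • c) : C)
  have hF : ∀ q : G ⧸ P, S.r K (q.out • c) (F q) := fun q => S.gt_rel hK _
  have hmem : ∀ a b : G, a⁻¹ * b ∈ P ↔ S.r K (a • c) (b • c) := by
    intro a b
    rw [hP, hS, r_bSys, mul_smul, ← hiso a, smul_inv_smul]
  have hfix : ∀ q : G ⧸ P, g • q = q ↔ S.r K (F q) (g • F q) := by
    intro q
    have h1 : g • q = q ↔ q.out⁻¹ * (g * q.out) ∈ P := by
      conv_lhs => rw [← q.out_eq']
      rw [MulAction.Quotient.smul_mk, eq_comm, QuotientGroup.eq]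
      rfl
    rw [h1, hmem, mul_smul]
    constructor
    · intro h
      exact heq.trans (heq.symm (hF q)) (heq.trans h (hr g _ _ (hF q)))
    · intro h
      exact heq.trans (hF q) (heq.trans h (heq.symm (hr g _ _ (hF q))))
  symm
  refine Nat.card_congr (Equiv.ofBijective
    (fun q : MulAction.fixedBy (G ⧸ P) g => (⟨F q, (S.gt hK _).2, (hfix q).1 q.2⟩ :
      {x // K ⊆ (bSys Δ c).N x ∧ Δ.δ x (g • x) ∈ WJ cs (K : Set I)})) ⟨?_, ?_⟩)
  · intro q q' h
    have h1 : F q = F q' := by
      have h0 := congrArg (Subtype.val : {x // K ⊆ (bSys Δ c).N x ∧ Δ.δ x (g • x) ∈ WJ cs (K : Set I)} → C) h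
      exact h0
    apply Subtype.ext
    have h2 : (q : G ⧸ P).out⁻¹ * (q' : G ⧸ P).out ∈ P := by
      rw [hmem]
      have h3 := hF q
      have h4 := hF q'
      rw [← h1] at h4
      exact heq.trans h3 (heq.symm h4)
    rw [← (q : G ⧸ P).out_eq', ← (q' : G ⧸ P).out_eq']
    exact QuotientGroup.eq.2 h2
  · rintro ⟨x, hx, hx2⟩
    obtain ⟨a, ha⟩ := htr c x
    let q : G ⧸ P := QuotientGroup.mk a
    have h1 : S.r K (q.out • c) x := by
      rw [← ha, ← hmem]
      exact QuotientGroup.eq.1 q.out_eq'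
    have h2 : F q = x := by
      have := (S.gt_eq_iff hK (x := q.out • c) (y := ⟨x, hx⟩)).2 h1
      exact congrArg Subtype.val this
    have h3 : g • q = q := by
      rw [hfix, h2]
      exact hx2
    refine ⟨⟨q, h3⟩, Subtype.ext h2⟩

include hiso in
/-- **The Steinberg character as an alternating sum of permutation characters** (abstract form): a finite group acting
strongly transitively on a finite building with an apartment; `P K` is the stabiliser of the `K`-residue of `c`. -/
theorem exists_char_alt [Finite G] [Finite W]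
    (htr : ∀ x y x' y', Δ.δ x y = Δ.δ x' y' → ∃ g : G, g • x = x' ∧ g • y = y')
    (a : W → C) (ha : ∀ v w, Δ.δ (a v) (a w) = v⁻¹ * w) (c : C) (P : Finset I → Subgroup G)
    (hP : ∀ K (g : G), g ∈ P K ↔ Δ.δ c (g • c) ∈ WJ cs (K : Set I)) :
    IsIrrCharacter G (fun g => ∑ K ∈ (Finset.univ : Finset I).powerset, (-1 : ℂ) ^ K.card *
      fixedPointCharacter (P K) g) ∧
    ∀ (x : C) (g : G), g • x = x → (∑ K ∈ (Finset.univ : Finset I).powerset, (-1 : ℂ) ^ K.card *
      fixedPointCharacter (P K) g) = (Nat.card {y : C // Δ.Opp x y ∧ g • y = y} : ℂ) := by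
  have htr1 : ∀ x y : C, ∃ g : G, g • x = y := by
    intro x y
    obtain ⟨g, hg, -⟩ := htr x x y y (by rw [(Δ.eq_one x x).2 rfl, (Δ.eq_one y y).2 rfl])
    exact ⟨g, hg⟩
  have key : ∀ g : G, (stRep Δ hiso).character g = ∑ K ∈ (Finset.univ : Finset I).powerset, (-1 : ℂ) ^ K.card *
      fixedPointCharacter (P K) g := by
    intro g
    rw [character_alt Δ hiso c g]
    refine Finset.sum_congr rfl fun K _ => ?_
    rw [card_fixed Δ hiso c htr1 K (P K) (hP K) g]
    rfl
  have hapt : ∀ x y, Δ.Opp x y → ∃ a : W → C, (∀ v w, Δ.δ (a v) (a w) = v⁻¹ * w) ∧ a 1 = x ∧ a (w0 cs) = y := by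
    intro x y hxy
    have h1 : Δ.δ (a 1) (a (w0 cs)) = Δ.δ x y := by
      rw [ha, inv_one, one_mul]
      exact hxy.symm
    obtain ⟨g, hg1, hg2⟩ := htr _ _ _ _ h1
    refine ⟨fun w => g • a w, ?_, hg1, hg2⟩
    intro v w
    rw [hiso, ha]
  have hirr : (stRep Δ hiso).IsIrreducible := by
    refine irreducible Δ hiso (a 1) (hapt (a 1)) ⟨a (w0 cs), ?_⟩ htr
    unfold Opp
    rw [ha, inv_one, one_mul]
  refine ⟨?_, ?_⟩
  · have h1 : (fun g => ∑ K ∈ (Finset.univ : Finset I).powerset, (-1 : ℂ) ^ K.card *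
        fixedPointCharacter (P K) g) = (stRep Δ hiso).character := by
      funext g
      exact (key g).symm
    rw [h1]
    exact Cfsg.Agent.Characters.Core.isIrrCharacter_of_rep _ hirr
  · intro x g hg
    rw [← key g]
    exact character_eq Δ hiso x (hapt x) hg

end Full

end Cfsg.Agent.H167.AltBldg
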